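import Mathlib

/-!
# Arithmetic for bounds on nilpotent permutation groups

`expTwo n` is the exponent of two in `n!`, and `bnd n` is the largest order of a nilpotent
subgroup of the symmetric group of degree `n`.
-/

set_option autoImplicit false

namespace CfsgLib.Perm.Nilp

/-- The exponent of two in `n!`. -/
noncomputable def expTwo (n : ℕ) : ℕ := padicValNat 2 (Nat.factorial n)

/-- The bound on the order of a nilpotent permutation group of degree `n`. -/
noncomputable def bnd (n : ℕ) : ℕ := if n % 4 = 3 then 3 * 2 ^ expTwo (n - 3) else 2 ^ expTwo n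

theorem expTwo_zero : expTwo 0 = 0 := by simp [expTwo]

theorem expTwo_rec (n : ℕ) : expTwo n = n / 2 + expTwo (n / 2) := by
  have h : n = 2 * (n / 2) + n % 2 := (Nat.div_add_mod n 2).symm
  conv_lhs => rw [h]
  rw [expTwo, padicValNat_factorial_mul_add (p := 2) _ (Nat.mod_lt _ (by norm_num)),
    padicValNat_factorial_mul, expTwo, add_comm]

theorem expTwo_one : expTwo 1 = 0 := by rw [expTwo_rec]; norm_num [expTwo_zero]

theorem expTwo_two : expTwo 2 = 1 := by rw [expTwo_rec]; norm_num [expTwo_one]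

theorem expTwo_add (a b : ℕ) : expTwo a + expTwo b ≤ expTwo (a + b) := by
  unfold expTwo
  rw [← padicValNat.mul (Nat.factorial_ne_zero a) (Nat.factorial_ne_zero b)]
  rw [← padicValNat_dvd_iff_le (Nat.factorial_ne_zero (a + b))]
  exact pow_padicValNat_dvd.trans (Nat.factorial_mul_factorial_dvd_factorial_add a b)

theorem expTwo_mono {a b : ℕ} (h : a ≤ b) : expTwo a ≤ expTwo b := by
  obtain ⟨c, rfl⟩ := Nat.exists_eq_add_of_le h
  exact le_trans (Nat.le_add_right _ _) (expTwo_add a c)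

theorem expTwo_lt {n : ℕ} (hn : 1 ≤ n) : expTwo n < n := by
  induction n using Nat.strong_induction_on with
  | _ n ih =>
    rw [expTwo_rec]
    rcases Nat.eq_or_lt_of_le hn with h | h
    · rw [← h]; norm_num [expTwo_zero]
    · have := ih (n / 2) (by omega) (by omega)
      omega

theorem expTwo_four (j r : ℕ) (hr : r < 4) : expTwo (4 * j + r) = expTwo j + 3 * j + r / 2 := by
  rw [expTwo_rec, expTwo_rec ((4 * j + r) / 2), show (4 * j + r) / 2 = 2 * j + r / 2 by omega,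
    show (2 * j + r / 2) / 2 = j by omega]
  omega

theorem bnd_four (j r : ℕ) (hr : r < 4) :
    bnd (4 * j + r) = (if r = 3 then 3 else 2 ^ (r / 2)) * 2 ^ (expTwo j + 3 * j) := by
  unfold bnd
  rw [show (4 * j + r) % 4 = r by omega]
  split
  · rw [show 4 * j + r - 3 = 4 * j + 0 by omega, expTwo_four _ _ (by norm_num)]
    simp
  · rw [expTwo_four _ _ hr, pow_add, mul_comm]

theorem pow_expTwo_le_bnd (n : ℕ) : 2 ^ expTwo n ≤ bnd n := by
  obtain ⟨j, r, hr, rfl⟩ : ∃ j r, r < 4 ∧ n = 4 * j + r := ⟨n / 4, n % 4, by omega, by omega⟩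
  rw [bnd_four _ _ hr, expTwo_four _ _ hr, pow_add, mul_comm]
  gcongr
  split
  · next h => subst h; norm_num
  · exact le_rfl

theorem two_mul_bnd_le (n : ℕ) : 2 * bnd n ≤ 3 * 2 ^ expTwo n := by
  obtain ⟨j, r, hr, rfl⟩ : ∃ j r, r < 4 ∧ n = 4 * j + r := ⟨n / 4, n % 4, by omega, by omega⟩
  rw [bnd_four _ _ hr, expTwo_four _ _ hr, pow_add 2 (expTwo j + 3 * j)]
  have h0 : 0 < 2 ^ (expTwo j + 3 * j) := by positivity
  split
  · next h => subst h; norm_num; linarith
  · have : 0 < 2 ^ (r / 2) := by positivity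
    nlinarith

theorem bnd_of_ne {n : ℕ} (hn : n % 4 ≠ 3) : bnd n = 2 ^ expTwo n := if_neg hn

theorem bnd_of_eq {n : ℕ} (hn : n % 4 = 3) : bnd n = 3 * 2 ^ expTwo (n - 3) := if_pos hn

theorem one_le_bnd (n : ℕ) : 1 ≤ bnd n := le_trans Nat.one_le_two_pow (pow_expTwo_le_bnd n)

theorem bnd_mul (a b : ℕ) : bnd a * bnd b ≤ bnd (a + b) := by
  obtain ⟨i, r, hr, rfl⟩ : ∃ j r, r < 4 ∧ a = 4 * j + r := ⟨a / 4, a % 4, by omega, by omega⟩
  obtain ⟨j, s, hs, rfl⟩ : ∃ j r, r < 4 ∧ b = 4 * j + r := ⟨b / 4, b % 4, by omega, by omega⟩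
  rw [bnd_four _ _ hr, bnd_four _ _ hs]
  have h1 : 2 ^ (expTwo i + 3 * i) * 2 ^ (expTwo j + 3 * j) ≤ 2 ^ (expTwo (i + j) + 3 * (i + j)) := by
    rw [← pow_add]
    exact Nat.pow_le_pow_right (by norm_num) (by have := expTwo_add i j; omega)
  rw [mul_mul_mul_comm]
  by_cases hc : r + s < 4
  · rw [show 4 * i + r + (4 * j + s) = 4 * (i + j) + (r + s) by ring, bnd_four _ _ hc]
    refine Nat.mul_le_mul ?_ h1
    interval_cases r <;> interval_cases s <;> simp_all
  · rw [show 4 * i + r + (4 * j + s) = 4 * (i + j + 1) + (r + s - 4) by omega,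
      bnd_four _ _ (by omega)]
    have h2 : 8 * 2 ^ (expTwo (i + j) + 3 * (i + j)) ≤ 2 ^ (expTwo (i + j + 1) + 3 * (i + j + 1)) := by
      rw [show (8 : ℕ) = 2 ^ 3 by norm_num, ← pow_add]
      exact Nat.pow_le_pow_right (by norm_num)
        (by have := expTwo_mono (Nat.le_add_right (i + j) 1); omega)
    refine le_trans (Nat.mul_le_mul_left _ h1) (le_trans ?_ (Nat.mul_le_mul_left _ h2))
    rw [← mul_assoc]
    refine Nat.mul_le_mul_right _ ?_
    interval_cases r <;> interval_cases s <;> simp_all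

/-- Replacing a block of size two: the transitive case with an involution and an odd prime. -/
theorem two_pow_mul_bnd_le {m q : ℕ} (hm : 3 ≤ m) (hq : 3 ≤ q) :
    2 * (2 ^ (m / q) * bnd m) ≤ 2 ^ expTwo (2 * m) := by
  have h1 : expTwo (2 * m) = m + expTwo m := by rw [expTwo_rec, Nat.mul_div_cancel_left _ (by norm_num)]
  have h3 : m / q + 2 ≤ m := by
    have := Nat.div_le_div_left hq (by norm_num : 0 < 3) (a := m)
    omega
  calc 2 * (2 ^ (m / q) * bnd m) = 2 ^ (m / q) * (2 * bnd m) := by ring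
    _ ≤ 2 ^ (m / q) * (3 * 2 ^ expTwo m) := Nat.mul_le_mul_left _ (two_mul_bnd_le m)
    _ ≤ 2 ^ (m / q) * (2 ^ 2 * 2 ^ expTwo m) := by gcongr; norm_num
    _ = 2 ^ (m / q + 2 + expTwo m) := by rw [pow_add, pow_add]; ring
    _ ≤ _ := by rw [h1]; exact Nat.pow_le_pow_right (by norm_num) (by omega)

/-- The three-bound in even degree. -/
theorem two_pow_mul_bnd_sq_le {m q : ℕ} (hm : 3 ≤ m) (hq : 3 ≤ q) :
    (2 ^ (m / q) * bnd m) ^ 2 ≤ 3 ^ (2 * m - 1) := by
  have h1 : 4 * (2 ^ (m / q) * bnd m) ≤ 3 * 2 ^ (m / 3 + m) := by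
    calc 4 * (2 ^ (m / q) * bnd m) ≤ 4 * (2 ^ (m / 3) * bnd m) := by
          gcongr
          · norm_num
      _ = 2 ^ (m / 3) * 2 * (2 * bnd m) := by ring
      _ ≤ 2 ^ (m / 3) * 2 * (3 * 2 ^ expTwo m) := Nat.mul_le_mul_left _ (two_mul_bnd_le m)
      _ = 3 * 2 ^ (m / 3 + (expTwo m + 1)) := by rw [pow_add, pow_succ]; ring
      _ ≤ _ := by
          gcongr
          · norm_num
          · have := expTwo_lt (n := m) (by omega); omega
  have h2 : ∀ k, 3 ≤ k → 27 ^ 3 * 256 ^ k ≤ 16 ^ 3 * 729 ^ k := by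
    intro k hk
    induction k, hk using Nat.le_induction with
    | base => norm_num
    | succ k _ ih => norm_num at ih ⊢; rw [pow_succ, pow_succ]; omega
  have h3 : (3 * 2 ^ (m / 3 + m)) ^ 2 * 3 ≤ 16 * 9 ^ m := by
    refine (Nat.pow_le_pow_iff_left (n := 3) (by norm_num)).1 ?_
    calc ((3 * 2 ^ (m / 3 + m)) ^ 2 * 3) ^ 3 = 27 ^ 3 * 2 ^ ((m / 3 + m) * 6) := by
          rw [mul_pow, mul_pow, mul_pow, ← pow_mul, ← pow_mul, ← pow_mul]; ring_nf
      _ ≤ 27 ^ 3 * 2 ^ (8 * m) :=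
          Nat.mul_le_mul_left _ (Nat.pow_le_pow_right (by norm_num) (by omega))
      _ = 27 ^ 3 * 256 ^ m := by rw [pow_mul]; norm_num
      _ ≤ 16 ^ 3 * 729 ^ m := h2 m hm
      _ = (16 * 9 ^ m) ^ 3 := by rw [mul_pow, ← pow_mul, mul_comm m 3, pow_mul]; norm_num
  have h4 : (4 * (2 ^ (m / q) * bnd m)) ^ 2 * 3 ≤ 16 * 9 ^ m :=
    le_trans (Nat.mul_le_mul_right _ (Nat.pow_le_pow_left h1 2)) h3
  have h5 : 9 ^ m = 3 * 3 ^ (2 * m - 1) := by
    rw [← pow_succ', show 2 * m - 1 + 1 = 2 * m by omega, pow_mul]; norm_num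
  rw [h5, mul_pow] at h4
  omega

theorem sq_mul_le {A B a b : ℕ} (ha : 1 ≤ a) (hb : 1 ≤ b) (hA : A ^ 2 ≤ 3 ^ (a - 1)) (hB : B ^ 2 ≤ 3 ^ (b - 1)) :
    (A * B) ^ 2 ≤ 3 ^ (a + b - 2) := by
  rw [mul_pow, show a + b - 2 = (a - 1) + (b - 1) by omega, pow_add]
  exact Nat.mul_le_mul hA hB

/-- An odd prime block size keeps the three-bound. -/
theorem prime_pow_mul_sq_le {p : ℕ} (hp : 3 ≤ p) {m X Y : ℕ} (hm : 1 ≤ m) (hX : X ≤ p ^ m)
    (hY : Y ^ 2 ≤ 3 ^ (m - 1)) : (X * Y) ^ 2 ≤ 3 ^ (p * m - 1) := by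
  have h : ∀ k, 3 ≤ k → k ^ 2 ≤ 3 ^ (k - 1) := by
    intro k hk
    induction k, hk using Nat.le_induction with
    | base => norm_num
    | succ k hk ih =>
      rw [show k + 1 - 1 = (k - 1) + 1 by omega, pow_succ 3]
      nlinarith
  rw [mul_pow]
  calc X ^ 2 * Y ^ 2 ≤ (p ^ 2) ^ m * 3 ^ (m - 1) := by
        refine Nat.mul_le_mul (le_trans (Nat.pow_le_pow_left hX 2) ?_) hY
        rw [← pow_mul, ← pow_mul, mul_comm]
    _ ≤ (3 ^ (p - 1)) ^ m * 3 ^ (m - 1) :=
        Nat.mul_le_mul_right _ (Nat.pow_le_pow_left (h p hp) m)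
    _ = 3 ^ (p * m - 1) := by
        rw [← pow_mul, ← pow_add]
        congr 1
        obtain ⟨r, rfl⟩ : ∃ r, p = r + 1 := ⟨p - 1, by omega⟩
        rw [Nat.add_sub_cancel, add_mul, one_mul]
        omega

theorem expTwo_small {n : ℕ} (hn : n < 32) : expTwo n = n / 2 + n / 4 + n / 8 + n / 16 := by
  rw [expTwo_rec, expTwo_rec (n / 2), expTwo_rec (n / 2 / 2), expTwo_rec (n / 2 / 2 / 2),
    show n / 2 / 2 / 2 / 2 = n / 16 by omega, show n / 2 / 2 / 2 = n / 8 by omega,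
    show n / 2 / 2 = n / 4 by omega]
  have h : n / 16 < 2 := by omega
  interval_cases h' : n / 16
  · rw [expTwo_zero]; ring
  · rw [expTwo_one]; omega

/-- For large degree the three-bound is below half the two-part of `n!`. -/
theorem four_mul_three_pow_le : ∀ n, 16 ≤ n → 4 * 3 ^ (n - 1) ≤ 4 ^ expTwo n := by
  intro n
  induction n using Nat.strong_induction_on with
  | _ n ih =>
    intro hn
    rcases Nat.lt_or_ge n 32 with h | h
    · rw [expTwo_small h]
      interval_cases n <;> norm_num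
    · have h1 := ih (n / 2) (by omega) (by omega)
      rw [expTwo_rec n, pow_add]
      have h2 : ∀ k, 16 ≤ k → 3 * 3 ^ k ≤ 4 ^ k := by
        intro k hk
        induction k, hk using Nat.le_induction with
        | base => norm_num
        | succ k _ ih => rw [pow_succ, pow_succ]; omega
      calc 4 * 3 ^ (n - 1) ≤ 4 * 3 ^ (n / 2 + 1 + (n / 2 - 1)) := by
            gcongr
            · norm_num
            · omega
        _ = (3 * 3 ^ (n / 2)) * (4 * 3 ^ (n / 2 - 1)) := by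
            rw [show n / 2 + 1 + (n / 2 - 1) = (n / 2 + 1) + (n / 2 - 1) from rfl, pow_add, pow_succ]
            ring
        _ ≤ 4 ^ (n / 2) * 4 ^ expTwo (n / 2) := Nat.mul_le_mul (h2 _ (by omega)) h1

/-- The three-bound against the general bound in odd degree at least nine. -/
theorem three_pow_le_bnd_sq {n : ℕ} (hn : 9 ≤ n) : 3 ^ (n - 1) ≤ bnd n ^ 2 := by
  rcases Nat.lt_or_ge n 16 with h | h
  · rcases em (n % 4 = 3) with h4 | h4
    · rw [bnd_of_eq h4, expTwo_small (by omega)]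
      interval_cases n <;> simp_all
    · rw [bnd_of_ne h4, expTwo_small (by omega)]
      interval_cases n <;> simp_all
  · refine le_trans (Nat.le_mul_of_pos_left _ (by norm_num : 0 < 4)) (le_trans (four_mul_three_pow_le n h) ?_)
    rw [show (4 : ℕ) = 2 ^ 2 by norm_num, ← pow_mul, mul_comm, pow_mul]
    exact Nat.pow_le_pow_left (pow_expTwo_le_bnd n) 2

/-- Values in small degree. -/
theorem bnd_small {n : ℕ} (h2 : 2 ≤ n) (h16 : n < 16) (h3 : n ≠ 3) (h5 : n ≠ 5) (h6 : n ≠ 6) (h9 : n ≠ 9) :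
    (n % 2 = 1 → 2 * n ≤ bnd n) ∧ (n % 2 = 0 → 4 * 3 ^ (n - 2) ≤ bnd n ^ 2) ∧
      (n % 2 = 1 → 4 * 3 ^ (n - 3) ≤ bnd n ^ 2) := by
  unfold bnd
  rw [expTwo_small (by omega : n < 32), expTwo_small (by omega : n - 3 < 32)]
  interval_cases n <;> norm_num at *

theorem bnd_three : bnd 3 = 3 := by simp [bnd, expTwo_zero]

end CfsgLib.Perm.Nilp
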