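import Cfsg.Agent.Lib.Perm.Nilpotent.Restrict
import Cfsg.Agent.Lib.Perm.Nilpotent.Arith

/-!
# Bounds on nilpotent permutation groups
-/

set_option autoImplicit false
set_option linter.unusedSectionVars false
set_option linter.style.haveILetI false

namespace CfsgLib.Perm.Nilp

open MulAction

universe u

variable {α : Type u} [Finite α]

theorem pos_of_inst (α : Type u) [Finite α] [Nonempty α] : 1 ≤ Nat.card α := Nat.card_pos

theorem card_eq_one_of_le_one (N : Subgroup (Equiv.Perm α)) (h : Nat.card α ≤ 1) : Nat.card N = 1 := by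
  haveI : Subsingleton α := Finite.card_le_one_iff_subsingleton.1 h
  haveI : Subsingleton (Equiv.Perm α) := ⟨fun a b => Equiv.ext fun x => Subsingleton.elim _ _⟩
  exact Nat.card_of_subsingleton (1 : N)

theorem prime_dvd_degree {N : Subgroup (Equiv.Perm α)} [IsPretransitive N α] {z : N}
    (hz : z ∈ Subgroup.center N) :
    Nat.card (orbitRel.Quotient (Subgroup.zpowers z) α) * orderOf z = Nat.card α := by
  rw [← card_quot_mul_card (T := Subgroup.zpowers z) (Subgroup.zpowers_le.2 hz), Nat.card_zpowers]

/-- A transitive nilpotent group with two central elements of coprime orders. -/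
theorem transitive_card_le {N : Subgroup (Equiv.Perm α)} (hN : Group.IsNilpotent N) [IsPretransitive N α]
    {z y : N} (hz : z ∈ Subgroup.center N) (hy : y ∈ Subgroup.center N)
    (hco : (orderOf z).Coprime (orderOf y)) :
    ∃ m : ℕ, ∃ M : Subgroup (Equiv.Perm (orbitRel.Quotient (Subgroup.zpowers z) α)),
      Group.IsNilpotent M ∧ IsPretransitive M (orbitRel.Quotient (Subgroup.zpowers z) α) ∧
      Nat.card (orbitRel.Quotient (Subgroup.zpowers z) α) = m * orderOf y ∧
      Nat.card M ∣ Nat.card N ∧
      Nat.card N ≤ orderOf z ^ m * Nat.card M := by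
  haveI : Finite N := inferInstance
  let T := Subgroup.zpowers (z * y)
  have hT : T ≤ Subgroup.center N := Subgroup.zpowers_le.2 (mul_mem hz hy)
  have hcomm : Commute z y := Subgroup.mem_center_iff.1 hy z
  have hcardT : Nat.card T = orderOf z * orderOf y := by
    rw [Nat.card_zpowers, hcomm.orderOf_mul_eq_mul_orderOf_of_coprime hco]
  refine ⟨Nat.card (orbitRel.Quotient T α), (blockHom hz).range, isNilpotent_range hN _,
    blockHom_pretransitive hz, ?_, ?_, ?_⟩
  · have h1 := prime_dvd_degree (α := α) hz
    have h2 := card_quot_mul_card (α := α) hT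
    rw [hcardT, ← h1] at h2
    exact Nat.eq_of_mul_eq_mul_right (orderOf_pos z) (by rw [← h2]; ring)
  · rw [card_le_ker_mul_range hz]; exact dvd_mul_left _ _
  · rw [card_le_ker_mul_range hz]
    exact Nat.mul_le_mul_right _ (card_blockHom_ker_le hz hT)

/-- A transitive nilpotent group of odd order and degree at least two. -/
theorem transitive_odd_cases {N : Subgroup (Equiv.Perm α)} (hN : Group.IsNilpotent N) [IsPretransitive N α]
    (hodd : Odd (Nat.card N)) (hn : 2 ≤ Nat.card α) :
    ∃ p m : ℕ, p.Prime ∧ 3 ≤ p ∧ Nat.card α = p * m ∧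
      ∃ (β : Type u) (_ : Finite β) (M : Subgroup (Equiv.Perm β)), Nat.card β = m ∧ Group.IsNilpotent M ∧
        IsPretransitive M β ∧ Odd (Nat.card M) ∧ Nat.card N ≤ p ^ m * Nat.card M := by
  haveI := hN
  haveI : Nonempty α := (Nat.card_pos_iff.1 (by omega)).1
  have hdvd : Nat.card α ∣ Nat.card N := by
    obtain ⟨x⟩ : Nonempty α := inferInstance
    have := MulAction.index_stabilizer_of_transitive N x
    rw [← this]
    exact Subgroup.index_dvd_card _
  obtain ⟨p, hp, hpn⟩ := Nat.exists_prime_and_dvd (n := Nat.card α) (by omega)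
  obtain ⟨z, hz, hzp⟩ := exists_central_orderOf hp (hpn.trans hdvd)
  have hp3 : 3 ≤ p := by
    rcases hp.eq_two_or_odd with rfl | h
    · exact absurd (Nat.le_of_dvd two_pos (dvd_refl 2)) (by
        have := (hodd.of_dvd_nat (hpn.trans hdvd))
        exact absurd this (by decide))
    · have := hp.two_le; omega
  obtain ⟨m, M, hM, hMt, hcard, hMdvd, hle⟩ :=
    transitive_card_le hN hz (one_mem (Subgroup.center N)) (by rw [orderOf_one]; exact Nat.coprime_one_right _)
  rw [orderOf_one, mul_one] at hcard
  refine ⟨p, m, hp, hp3, ?_, _, inferInstance, M, hcard, hM, hMt, hodd.of_dvd_nat hMdvd, hzp ▸ hle⟩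
  rw [← prime_dvd_degree (α := α) hz, hzp, hcard, mul_comm]

/-- The three-bound for nilpotent groups of odd order. -/
theorem odd_sq_le : ∀ n : ℕ, ∀ (α : Type u) [Finite α], Nat.card α = n →
    ∀ N : Subgroup (Equiv.Perm α), Group.IsNilpotent N → Odd (Nat.card N) →
      Nat.card N ^ 2 ≤ 3 ^ (n - 1) := by
  intro n
  induction n using Nat.strong_induction_on with
  | _ n ih =>
    intro α _ hn N hN hodd
    rcases Nat.lt_or_ge n 2 with h2 | h2
    · rw [card_eq_one_of_le_one N (by omega), one_pow]; exact Nat.one_le_pow _ _ (by norm_num)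
    by_cases ht : IsPretransitive N α
    · obtain ⟨p, m, hp, hp3, hnpm, β, _, M, hβ, hM, -, hModd, hle⟩ := transitive_odd_cases hN hodd (hn ▸ h2)
      rw [hn] at hnpm
      have hm : 1 ≤ m := by
        rcases Nat.eq_zero_or_pos m with h | h
        · rw [h, mul_zero] at hnpm; omega
        · exact h
      have hmn : m < n := hnpm ▸ lt_mul_of_one_lt_left hm hp.one_lt
      have hMb := ih m hmn β hβ M hM hModd
      refine le_trans (Nat.pow_le_pow_left hle 2) ?_
      rw [hnpm]
      exact prime_pow_mul_sq_le hp3 hm le_rfl hMb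
    · obtain ⟨P, hP, hx, hy⟩ := exists_inv_of_not_pretransitive ht
      obtain ⟨hsum, ha, hb⟩ := card_lt_of_parts hx hy
      rw [hn] at hsum
      have h1 := ih _ (by omega) {x // P x} rfl (resHom hP).range (isNilpotent_range hN _)
        (hodd.of_dvd_nat (Subgroup.card_range_dvd _))
      have h3 := ih _ (by omega) {x // ¬ P x} rfl (resHom hP.not).range (isNilpotent_range hN _)
        (hodd.of_dvd_nat (Subgroup.card_range_dvd _))
      refine le_trans (Nat.pow_le_pow_left (card_le_mul hP) 2) ?_
      exact le_trans (sq_mul_le ha hb h1 h3) (Nat.pow_le_pow_right (by norm_num) (by omega))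

theorem isPGroup_card_le {N : Subgroup (Equiv.Perm α)} (h : IsPGroup 2 N) :
    Nat.card N ≤ 2 ^ expTwo (Nat.card α) := by
  obtain ⟨k, hk⟩ := IsPGroup.iff_card.1 h
  have hd : 2 ^ k ∣ (Nat.card α).factorial := by
    rw [← hk, ← Nat.card_perm]
    exact Subgroup.card_subgroup_dvd_card N
  rw [hk]
  exact Nat.pow_le_pow_right (by norm_num)
    ((padicValNat_dvd_iff_le (Nat.factorial_ne_zero _)).1 hd)

/-- A transitive nilpotent group is a two-group, or of odd order, or has the even bound. -/
theorem transitive_trichotomy {N : Subgroup (Equiv.Perm α)} (hN : Group.IsNilpotent N)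
    [IsPretransitive N α] [Nonempty α] :
    IsPGroup 2 N ∨ Odd (Nat.card N) ∨
      ∃ m q : ℕ, Nat.card α = 2 * m ∧ 3 ≤ m ∧ 3 ≤ q ∧
        ∃ (β : Type u) (_ : Finite β) (M : Subgroup (Equiv.Perm β)),
          Nat.card β = m ∧ Group.IsNilpotent M ∧ Nat.card N ≤ 2 ^ (m / q) * Nat.card M := by
  haveI := hN
  by_cases hodd : Odd (Nat.card N)
  · exact Or.inr (Or.inl hodd)
  by_cases h : ∀ q : ℕ, q.Prime → q ∣ Nat.card N → q = 2
  · exact Or.inl (IsPGroup.of_card (n := (Nat.card N).primeFactorsList.length)
      (Nat.eq_prime_pow_of_unique_prime_dvd Nat.card_pos.ne' fun {d} hd hdd => h d hd hdd))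
  push Not at h
  obtain ⟨q, hq, hqd, hq2⟩ := h
  obtain ⟨z, hz, hz2⟩ := exists_central_orderOf Nat.prime_two (even_iff_two_dvd.1 (Nat.not_odd_iff_even.1 hodd))
  obtain ⟨y, hy, hyq⟩ := exists_central_orderOf hq hqd
  have hco : (orderOf z).Coprime (orderOf y) := by
    rw [hz2, hyq, Nat.coprime_primes Nat.prime_two hq]
    exact fun e => hq2 e.symm
  obtain ⟨r, M, hM, -, hcard, -, hle⟩ := transitive_card_le hN hz hy hco
  refine Or.inr (Or.inr ⟨r * q, q, ?_, ?_, ?_, _, inferInstance, M, by rw [hcard, hyq], hM, ?_⟩)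
  · rw [← prime_dvd_degree (α := α) hz, hz2, hcard, hyq, mul_comm]
  · have hr : r ≠ 0 := by
      intro hr
      have h1 := prime_dvd_degree (α := α) hz
      rw [hcard, hr, zero_mul, zero_mul] at h1
      exact Nat.card_pos.ne' h1.symm
    have := hq.two_le
    calc 3 ≤ 1 * q := by omega
      _ ≤ r * q := Nat.mul_le_mul_right _ (Nat.pos_of_ne_zero hr)
  · have := hq.two_le; omega
  · rwa [hz2, show r = r * q / q from (Nat.mul_div_cancel _ hq.pos).symm] at hle

/-- The bound on the order of a nilpotent permutation group. -/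
theorem card_le_bnd_aux : ∀ n : ℕ, ∀ (α : Type u) [Finite α], Nat.card α = n →
    ∀ N : Subgroup (Equiv.Perm α), Group.IsNilpotent N → Nat.card N ≤ bnd n := by
  intro n
  induction n using Nat.strong_induction_on with
  | _ n ih =>
    intro α _ hn N hN
    rcases Nat.lt_or_ge n 2 with h2 | h2
    · rw [card_eq_one_of_le_one N (by omega)]; exact one_le_bnd n
    haveI : Nonempty α := (Nat.card_pos_iff.1 (by omega)).1
    by_cases ht : IsPretransitive N α
    · rcases transitive_trichotomy hN with h | h | ⟨m, q, hnm, hm, hq, β, _, M, hβ, hM, hle⟩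
      · exact (isPGroup_card_le h).trans (hn ▸ pow_expTwo_le_bnd _)
      · have hdvd : n ∣ Nat.card N := by
          obtain ⟨x⟩ : Nonempty α := inferInstance
          rw [← hn, ← MulAction.index_stabilizer_of_transitive N x]
          exact Subgroup.index_dvd_card _
        have hno : n % 2 = 1 := Nat.odd_iff.1 (h.of_dvd_nat hdvd)
        by_cases h9 : 9 ≤ n
        · refine (Nat.pow_le_pow_iff_left (n := 2) two_ne_zero).1 ?_
          exact (odd_sq_le n α hn N hN h).trans (three_pow_le_bnd_sq h9)
        · obtain ⟨p, m, hp, hp3, hnpm, β, _, M, hβ, -, -, -, hle⟩ := transitive_odd_cases hN h (hn ▸ h2)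
          rw [hn] at hnpm
          have hm : m = 1 := by
            rcases Nat.lt_or_ge m 2 with hm | hm
            · interval_cases m
              · omega
              · rfl
            · have h6 := Nat.mul_le_mul hp3 hm
              have hm2 : m = 2 := by nlinarith
              subst hm2; omega
          subst hm
          rw [card_eq_one_of_le_one M (by omega), mul_one, pow_one] at hle
          have h3 : n = 3 ∨ n = 5 ∨ n = 7 := by omega
          refine hle.trans ?_
          rw [mul_one] at hnpm
          rw [← hnpm]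
          rcases h3 with h3 | h3 | h3 <;> rw [h3] <;>
            simp [bnd, expTwo_small (show (5 : ℕ) < 32 by norm_num), expTwo_small (show (4 : ℕ) < 32 by norm_num),
              expTwo_zero]
      · rw [hn] at hnm
        refine hle.trans (le_trans ?_ (pow_expTwo_le_bnd n))
        have hb := ih m (by omega) β hβ M hM
        have := two_pow_mul_bnd_le hm hq
        rw [← hnm] at this
        have h5 : 2 ^ (m / q) * Nat.card M ≤ 2 ^ (m / q) * bnd m := Nat.mul_le_mul_left _ hb
        omega
    · obtain ⟨P, hP, hx, hy⟩ := exists_inv_of_not_pretransitive ht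
      obtain ⟨hsum, ha, hb⟩ := card_lt_of_parts hx hy
      rw [hn] at hsum
      refine (card_le_mul hP).trans (le_trans (Nat.mul_le_mul
        (ih _ (by omega) {x // P x} rfl _ (isNilpotent_range hN _))
        (ih _ (by omega) {x // ¬ P x} rfl _ (isNilpotent_range hN _))) ?_)
      rw [← hsum]
      exact bnd_mul _ _

/-- A nilpotent permutation group of degree `n` has order at most `bnd n`. -/
theorem card_le_bnd {α : Type u} [Finite α] (N : Subgroup (Equiv.Perm α)) (hN : Group.IsNilpotent N) :
    Nat.card N ≤ bnd (Nat.card α) :=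
  card_le_bnd_aux _ α rfl N hN

end CfsgLib.Perm.Nilp
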