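import Cfsg.Agent.Lib.Perm.Nilpotent.Extremal

/-!
# Sylow two-subgroups and the largest nilpotent subgroups in degree three modulo four
-/

set_option autoImplicit false
set_option linter.unusedSectionVars false
set_option linter.style.haveILetI false

namespace CfsgLib.Perm.Nilp

open scoped Pointwise

theorem card_sylow_perm {α : Type*} [Finite α] (P : Sylow 2 (Equiv.Perm α)) :
    Nat.card P = 2 ^ expTwo (Nat.card α) := by
  haveI : Fact (Nat.Prime 2) := ⟨Nat.prime_two⟩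
  rw [P.card_eq_multiplicity, Nat.card_perm, Nat.factorization_def _ Nat.prime_two, expTwo]

theorem card_sylow_alt {α : Type*} [Fintype α] [DecidableEq α] (hn : 2 ≤ Fintype.card α)
    (P : Sylow 2 (alternatingGroup α)) : 2 * Nat.card P = 2 ^ expTwo (Fintype.card α) := by
  haveI : Fact (Nat.Prime 2) := ⟨Nat.prime_two⟩
  haveI : Nontrivial α := Fintype.one_lt_card_iff_nontrivial.1 (by omega)
  have h2 : 2 * Nat.card (alternatingGroup α) = (Fintype.card α).factorial := by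
    rw [Nat.card_eq_fintype_card, two_mul_card_alternatingGroup, Fintype.card_perm]
  rw [P.card_eq_multiplicity, ← pow_succ', expTwo, ← Nat.factorization_def _ Nat.prime_two, ← h2,
    Nat.factorization_mul (by norm_num) Nat.card_pos.ne', Nat.Prime.factorization Nat.prime_two]
  simp [add_comm]

theorem expTwo_pred {n : ℕ} (hn : n % 4 = 3) (h7 : 7 ≤ n) : expTwo (n - 4) + 2 ≤ expTwo (n - 3) := by
  obtain ⟨j, rfl⟩ : ∃ j, n = 4 * (j + 1) + 3 := ⟨n / 4 - 1, by omega⟩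
  rw [show 4 * (j + 1) + 3 - 4 = 4 * j + 3 by omega, show 4 * (j + 1) + 3 - 3 = 4 * (j + 1) + 0 by omega,
    expTwo_four _ _ (by norm_num), expTwo_four _ _ (by norm_num)]
  have := expTwo_mono (Nat.le_add_right j 1)
  omega

theorem stdGrp_nilpotent {n : ℕ} (e : Fin (n - 3) ⊕ Fin 3 ≃ Fin n) (Q : Subgroup (Equiv.Perm (Fin (n - 3))))
    (hQ : IsPGroup 2 Q) :
    Group.IsNilpotent (stdGrp e Q (alternatingGroup (Fin 3))) ∧
      Nonempty (stdGrp e Q (alternatingGroup (Fin 3)) ≃* (Q × Multiplicative (ZMod 3))) := by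
  haveI : Fact (Nat.Prime 2) := ⟨Nat.prime_two⟩
  haveI : Fact (Nat.Prime 3) := ⟨Nat.prime_three⟩
  have h3 : Nat.card (alternatingGroup (Fin 3)) = 3 := by
    rw [Nat.card_eq_fintype_card]; rfl
  let i : alternatingGroup (Fin 3) ≃* Multiplicative (ZMod 3) :=
    mulEquivOfPrimeCardEq (p := 3) h3 (by rw [Nat.card_eq_fintype_card]; rfl)
  haveI := hQ.isNilpotent
  haveI : Group.IsNilpotent (alternatingGroup (Fin 3)) :=
    (IsPGroup.iff_card.2 ⟨1, by rw [h3, pow_one]⟩ : IsPGroup 3 (alternatingGroup (Fin 3))).isNilpotent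
  refine ⟨Group.nilpotent_of_surjective (stdGrpEquiv e Q _).symm.toMonoidHom (MulEquiv.surjective _),
    ⟨(stdGrpEquiv e Q _).trans (MulEquiv.prodCongr (MulEquiv.refl _) i)⟩⟩

/-- The standard split of `Fin n`. -/
def splitEquiv {n : ℕ} (h : 3 ≤ n) : Fin (n - 3) ⊕ Fin 3 ≃ Fin n :=
  finSumFinEquiv.trans (finCongr (by omega))

theorem map_conj_of_sylow {G : Type*} [Group G] [Finite G] {Q₁ Q₂ : Subgroup G} {k : ℕ}
    (hk : k = (Nat.card G).factorization 2) (h₁ : Nat.card Q₁ = 2 ^ k) (h₂ : Nat.card Q₂ = 2 ^ k) :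
    ∃ c : G, Q₁.map (MulAut.conj c).toMonoidHom = Q₂ := by
  haveI : Fact (Nat.Prime 2) := ⟨Nat.prime_two⟩
  subst hk
  obtain ⟨c, hc⟩ := MulAction.exists_smul_eq G (Sylow.ofCard Q₁ h₁) (Sylow.ofCard Q₂ h₂)
  refine ⟨c, ?_⟩
  have h := congrArg (fun S : Sylow 2 G => (S : Subgroup G)) hc
  rw [Sylow.coe_subgroup_smul] at h
  exact h

/-- Conjugacy in the symmetric group. -/
theorem exists_conj_perm {n : ℕ} (hn : n % 4 = 3) (N₁ N₂ : Subgroup (Equiv.Perm (Fin n)))
    (hN₁ : Group.IsNilpotent N₁) (hN₂ : Group.IsNilpotent N₂)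
    (h₁ : Nat.card N₁ = 3 * 2 ^ expTwo (n - 3)) (h₂ : Nat.card N₂ = 3 * 2 ^ expTwo (n - 3)) :
    ∃ g : Equiv.Perm (Fin n), N₂ = N₁.map (MulAut.conj g).toMonoidHom := by
  have hk : 6 ≤ n → expTwo (n - 4) < expTwo (n - 3) := fun h => by
    have := expTwo_pred hn (by omega); omega
  obtain ⟨e₁, Q₁, hQ₁, rfl⟩ := exists_split_of_card N₁ hN₁ h₁ hk
  obtain ⟨e₂, Q₂, hQ₂, rfl⟩ := exists_split_of_card N₂ hN₂ h₂ hk
  obtain ⟨c, hc⟩ := map_conj_of_sylow (by
    rw [Nat.card_perm, Nat.card_fin, Nat.factorization_def _ Nat.prime_two, expTwo]) hQ₁ hQ₂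
  exact ⟨_, (stdGrp_conj e₁ e₂ c hc _).symm⟩

/-- Conjugacy in the alternating group. -/
theorem exists_conj_alt {n : ℕ} (hn : n % 4 = 3) (h7 : 7 ≤ n) (N₁ N₂ : Subgroup (alternatingGroup (Fin n)))
    (hN₁ : Group.IsNilpotent N₁) (hN₂ : Group.IsNilpotent N₂)
    (h₁ : Nat.card N₁ = 3 * 2 ^ (expTwo (n - 3) - 1)) (h₂ : Nat.card N₂ = 3 * 2 ^ (expTwo (n - 3) - 1)) :
    ∃ g : alternatingGroup (Fin n), N₂ = N₁.map (MulAut.conj g).toMonoidHom := by
  haveI : Fact (Nat.Prime 2) := ⟨Nat.prime_two⟩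
  have hk : 6 ≤ n → expTwo (n - 4) < expTwo (n - 3) - 1 := fun h => by
    have := expTwo_pred hn (by omega); omega
  have key : ∀ N : Subgroup (alternatingGroup (Fin n)), Group.IsNilpotent N →
      Nat.card N = 3 * 2 ^ (expTwo (n - 3) - 1) → ∃ (e : Fin (n - 3) ⊕ Fin 3 ≃ Fin n)
        (Q : Subgroup (alternatingGroup (Fin (n - 3)))), Nat.card Q = 2 ^ (expTwo (n - 3) - 1) ∧
        N.map (alternatingGroup (Fin n)).subtype =
          stdGrp e (Q.map (alternatingGroup (Fin (n - 3))).subtype) (alternatingGroup (Fin 3)) := by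
    intro N hN hc
    have hinj := (alternatingGroup (Fin n)).subtype_injective
    haveI := hN
    obtain ⟨e, Q, hQ, hNe⟩ := exists_split_of_card (N.map (alternatingGroup (Fin n)).subtype)
      (Group.nilpotent_of_surjective (Subgroup.equivMapOfInjective N _ hinj).toMonoidHom (MulEquiv.surjective _))
      (by rw [Subgroup.card_map_of_injective hinj, hc]) hk
    have hle : Q ≤ alternatingGroup (Fin (n - 3)) := by
      intro q hq
      obtain ⟨x, -, hx⟩ : splitHom e (q, 1) ∈ N.map (alternatingGroup (Fin n)).subtype :=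
        hNe ▸ ⟨(q, 1), ⟨hq, one_mem _⟩, rfl⟩
      have h := Equiv.Perm.mem_alternatingGroup.1 x.2
      rw [show (x : Equiv.Perm (Fin n)) = splitHom e (q, 1) from hx, sign_splitHom, map_one, mul_one] at h
      exact Equiv.Perm.mem_alternatingGroup.2 h
    refine ⟨e, Q.subgroupOf _, ?_, ?_⟩
    · rw [Nat.card_congr (Subgroup.subgroupOfEquivOfLe hle).toEquiv, hQ]
    · rw [hNe, Subgroup.map_subgroupOf_eq_of_le hle]
  obtain ⟨e₁, Q₁, hQ₁, hN₁'⟩ := key N₁ hN₁ h₁
  obtain ⟨e₂, Q₂, hQ₂, hN₂'⟩ := key N₂ hN₂ h₂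
  have hfac : expTwo (n - 3) - 1 = (Nat.card (alternatingGroup (Fin (n - 3)))).factorization 2 := by
    obtain ⟨P⟩ : Nonempty (Sylow 2 (alternatingGroup (Fin (n - 3)))) := inferInstance
    have h := card_sylow_alt (by rw [Fintype.card_fin]; omega) P
    rw [P.card_eq_multiplicity, ← pow_succ', Fintype.card_fin] at h
    have := Nat.pow_right_injective le_rfl h
    omega
  obtain ⟨c, hc⟩ := map_conj_of_sylow hfac hQ₁ hQ₂
  have hc' : (Q₁.map (alternatingGroup (Fin (n - 3))).subtype).map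
      (MulAut.conj (c : Equiv.Perm (Fin (n - 3)))).toMonoidHom = Q₂.map (alternatingGroup (Fin (n - 3))).subtype := by
    rw [← hc, Subgroup.map_map, Subgroup.map_map]
    rfl
  have hconj := stdGrp_conj e₁ e₂ (c : Equiv.Perm (Fin (n - 3))) hc' (alternatingGroup (Fin 3))
  obtain ⟨g₀, hg₀⟩ : ∃ g₀, g₀ = e₁.symm.trans ((Equiv.sumCongr (c : Equiv.Perm (Fin (n - 3))) 1).trans e₂) :=
    ⟨_, rfl⟩
  rw [← hg₀] at hconj
  -- an odd correction normalising the first group
  obtain ⟨g, hgs, hg⟩ : ∃ g : Equiv.Perm (Fin n), Equiv.Perm.sign g = 1 ∧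
      (stdGrp e₁ (Q₁.map (alternatingGroup (Fin (n - 3))).subtype) (alternatingGroup (Fin 3))).map
        (MulAut.conj g).toMonoidHom =
      stdGrp e₂ (Q₂.map (alternatingGroup (Fin (n - 3))).subtype) (alternatingGroup (Fin 3)) := by
    rcases Int.units_eq_one_or (Equiv.Perm.sign g₀) with h | h
    · exact ⟨g₀, h, hconj⟩
    · refine ⟨g₀ * splitHom e₁ (1, Equiv.swap 0 1), ?_, ?_⟩
      · rw [map_mul, h, sign_splitHom, map_one, Equiv.Perm.sign_swap (by decide)]; rfl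
      · rw [show (MulAut.conj (g₀ * splitHom e₁ (1, Equiv.swap 0 1))).toMonoidHom =
            (MulAut.conj g₀).toMonoidHom.comp (MulAut.conj (splitHom e₁ (1, Equiv.swap 0 1))).toMonoidHom by
            rw [map_mul]; rfl, ← Subgroup.map_map, stdGrp_normalize, hconj]
  refine ⟨⟨g, Equiv.Perm.mem_alternatingGroup.2 hgs⟩, ?_⟩
  apply Subgroup.map_injective (alternatingGroup (Fin n)).subtype_injective
  rw [hN₂', ← hg, ← hN₁', Subgroup.map_map, Subgroup.map_map]
  rfl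

end CfsgLib.Perm.Nilp
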