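import Cfsg.Agent.Lib.Perm.Nilpotent.Bound

/-!
# Nilpotent groups of even permutations
-/

set_option autoImplicit false
set_option linter.unusedSectionVars false
set_option linter.style.haveILetI false

namespace CfsgLib.Perm.Nilp

open MulAction

universe u

/-- The second alternative for groups of even permutations. -/
def Weak (n c : ℕ) : Prop := c ^ 2 ≤ 3 ^ (n - 1) ∧ (Even n → c ^ 2 ≤ 3 ^ (n - 2))

variable {α : Type u} [Fintype α] [DecidableEq α]

theorem two_group_even_le {N : Subgroup (Equiv.Perm α)} (h : IsPGroup 2 N)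
    (heven : ∀ g ∈ N, Equiv.Perm.sign g = 1) (hn : 2 ≤ Fintype.card α) :
    2 * Nat.card N ≤ 2 ^ expTwo (Fintype.card α) := by
  obtain ⟨k, hk⟩ := IsPGroup.iff_card.1 h
  have hle : N ≤ alternatingGroup α := fun g hg => Equiv.Perm.mem_alternatingGroup.2 (heven g hg)
  haveI : Nontrivial α := Fintype.one_lt_card_iff_nontrivial.1 (by omega)
  have h1 := Subgroup.card_dvd_of_le hle
  have h2 : 2 * Nat.card (alternatingGroup α) = (Fintype.card α).factorial := by
    rw [Nat.card_eq_fintype_card, two_mul_card_alternatingGroup, Fintype.card_perm]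
  have h3 : 2 ^ (k + 1) ∣ (Fintype.card α).factorial := by
    rw [← h2, pow_succ', ← hk]; exact mul_dvd_mul_left 2 h1
  rw [hk, ← pow_succ']
  exact Nat.pow_le_pow_right (by norm_num)
    ((padicValNat_dvd_iff_le (Nat.factorial_ne_zero _)).1 h3)

/-- The alternatives in the transitive case. -/
theorem transitive_even_cases {N : Subgroup (Equiv.Perm α)} (hN : Group.IsNilpotent N)
    [IsPretransitive N α] (heven : ∀ g ∈ N, Equiv.Perm.sign g = 1) (hn : 2 ≤ Fintype.card α) :
    2 * Nat.card N ≤ 2 ^ expTwo (Fintype.card α) ∨ Odd (Fintype.card α) ∧ Odd (Nat.card N) := by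
  haveI : Nonempty α := Fintype.card_pos_iff.1 (by omega)
  rcases transitive_trichotomy hN with h | h | ⟨m, q, hnm, hm, hq, β, _, M, hβ, hM, hle⟩
  · exact Or.inl (two_group_even_le h heven hn)
  · refine Or.inr ⟨?_, h⟩
    obtain ⟨x⟩ : Nonempty α := inferInstance
    refine h.of_dvd_nat ?_
    rw [← Nat.card_eq_fintype_card, ← MulAction.index_stabilizer_of_transitive N x]
    exact Subgroup.index_dvd_card _
  · left
    rw [Nat.card_eq_fintype_card] at hnm
    have hb := card_le_bnd M hM
    rw [hβ] at hb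
    rw [hnm]
    exact le_trans (Nat.mul_le_mul_left 2 (le_trans hle (Nat.mul_le_mul_left _ hb))) (two_pow_mul_bnd_le hm hq)

/-- The step for intransitive groups. -/
theorem intransitive_step {N : Subgroup (Equiv.Perm α)} (hN : Group.IsNilpotent N)
    (heven : ∀ g ∈ N, Equiv.Perm.sign g = 1) (ht : ¬ IsPretransitive N α)
    (ih : ∀ (β : Type u) [Fintype β] [DecidableEq β], Fintype.card β < Fintype.card α → 1 ≤ Fintype.card β →
      ∀ M : Subgroup (Equiv.Perm β), Group.IsNilpotent M → (∀ g ∈ M, Equiv.Perm.sign g = 1) →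
        2 * Nat.card M ≤ bnd (Fintype.card β) ∨ Weak (Fintype.card β) (Nat.card M)) :
    2 * Nat.card N ≤ bnd (Fintype.card α) ∨
      (Nat.card N ^ 2 ≤ 3 ^ (Fintype.card α - 2) ∧
        (Odd (Fintype.card α) → Nat.card N ^ 2 ≤ 3 ^ (Fintype.card α - 3))) := by
  classical
  obtain ⟨P, hP, hx, hy⟩ := exists_inv_of_not_pretransitive ht
  obtain ⟨hsum, ha, hb⟩ := card_lt_of_parts hx hy
  simp only [Nat.card_eq_fintype_card] at hsum ha hb
  by_cases ho : ∃ s ∈ (resHom hP).range, Equiv.Perm.sign s ≠ 1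
  · left
    have := card_le_bnd (prodRes hP) (isNilpotent_prodRes hN hP)
    rw [Nat.card_eq_fintype_card (α := α)] at this
    exact le_trans (two_mul_card_le_of_odd hP heven ho) this
  by_cases ho' : ∃ s ∈ (resHom hP.not).range, Equiv.Perm.sign s ≠ 1
  · left
    have := card_le_bnd (prodRes hP.not) (isNilpotent_prodRes hN hP.not)
    rw [Nat.card_eq_fintype_card (α := α)] at this
    exact le_trans (two_mul_card_le_of_odd hP.not heven ho') this
  push Not at ho ho'
  have h1 := ih {x // P x} (by omega) ha (resHom hP).range (isNilpotent_range hN _) ho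
  have h2 := ih {x // ¬ P x} (by omega) hb (resHom hP.not).range (isNilpotent_range hN _) ho'
  have hle := card_le_mul hP
  have hA := card_le_bnd (resHom hP).range (isNilpotent_range hN _)
  have hB := card_le_bnd (resHom hP.not).range (isNilpotent_range hN _)
  simp only [Nat.card_eq_fintype_card (α := {x // P x}), Nat.card_eq_fintype_card (α := {x // ¬ P x})] at hA hB
  generalize Nat.card (resHom hP).range = A at hle hA h1
  generalize Nat.card (resHom hP.not).range = B at hle hB h2
  generalize Fintype.card {x // P x} = a at hsum ha hA h1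
  generalize Fintype.card {x // ¬ P x} = b at hsum hb hB h2
  rw [← hsum]
  rcases h1 with h1 | h1
  · left
    calc 2 * Nat.card N ≤ 2 * (A * B) := Nat.mul_le_mul_left _ hle
      _ = 2 * A * B := by ring
      _ ≤ bnd a * bnd b := Nat.mul_le_mul h1 hB
      _ ≤ _ := bnd_mul a b
  rcases h2 with h2 | h2
  · left
    calc 2 * Nat.card N ≤ 2 * (A * B) := Nat.mul_le_mul_left _ hle
      _ = A * (2 * B) := by ring
      _ ≤ bnd a * bnd b := Nat.mul_le_mul hA h2
      _ ≤ _ := bnd_mul a b
  right
  refine ⟨le_trans (Nat.pow_le_pow_left hle 2) (sq_mul_le ha hb h1.1 h2.1), fun hodd => ?_⟩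
  refine le_trans (Nat.pow_le_pow_left hle 2) ?_
  rw [mul_pow]
  rcases Nat.even_or_odd a with hae | hao
  · have ha2 : 2 ≤ a := by rcases hae with ⟨r, rfl⟩; omega
    rw [show a + b - 3 = (a - 2) + (b - 1) by omega, pow_add]
    exact Nat.mul_le_mul (h1.2 hae) h2.1
  · have hbe : Even b := by rw [Nat.odd_iff] at hodd hao; rw [Nat.even_iff]; omega
    have hb2 : 2 ≤ b := by rcases hbe with ⟨r, rfl⟩; omega
    rw [show a + b - 3 = (a - 1) + (b - 2) by omega, pow_add]
    exact Nat.mul_le_mul h1.1 (h2.2 hbe)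

/-- A nilpotent group of even permutations is either small or has the three-bound. -/
theorem even_alternatives_aux : ∀ n : ℕ, ∀ (α : Type u) [Fintype α] [DecidableEq α], Fintype.card α = n →
    1 ≤ n → ∀ N : Subgroup (Equiv.Perm α), Group.IsNilpotent N → (∀ g ∈ N, Equiv.Perm.sign g = 1) →
      2 * Nat.card N ≤ bnd n ∨ Weak n (Nat.card N) := by
  intro n
  induction n using Nat.strong_induction_on with
  | _ n ih =>
    intro α _ _ hn h1 N hN heven
    subst hn
    rcases Nat.lt_or_ge (Fintype.card α) 2 with h2 | h2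
    · right
      have hc : Fintype.card α = 1 := by omega
      rw [card_eq_one_of_le_one N (by rw [Nat.card_eq_fintype_card]; omega), hc]
      exact ⟨by norm_num, fun h => absurd h (by decide)⟩
    by_cases ht : IsPretransitive N α
    · rcases transitive_even_cases hN heven h2 with h | ⟨hno, hNo⟩
      · exact Or.inl (h.trans (pow_expTwo_le_bnd _))
      · right
        refine ⟨?_, fun he => absurd he (Nat.not_even_iff_odd.2 hno)⟩
        exact odd_sq_le _ α Nat.card_eq_fintype_card N hN hNo
    · rcases intransitive_step hN heven ht (fun β _ _ hb hb1 => ih _ hb β rfl hb1) with h | ⟨h, -⟩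
      · exact Or.inl h
      · exact Or.inr ⟨h.trans (Nat.pow_le_pow_right (by norm_num) (by omega)), fun _ => h⟩

/-- The intransitive case, in final form. -/
theorem intransitive_alternatives {N : Subgroup (Equiv.Perm α)} (hN : Group.IsNilpotent N)
    (heven : ∀ g ∈ N, Equiv.Perm.sign g = 1) (ht : ¬ IsPretransitive N α) :
    2 * Nat.card N ≤ bnd (Fintype.card α) ∨
      (Nat.card N ^ 2 ≤ 3 ^ (Fintype.card α - 2) ∧
        (Odd (Fintype.card α) → Nat.card N ^ 2 ≤ 3 ^ (Fintype.card α - 3))) :=
  intransitive_step hN heven ht fun β _ _ _ hb1 => even_alternatives_aux _ β rfl hb1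

/-- Half the bound for nilpotent groups of even permutations, away from degrees 5, 6 and 9. -/
theorem two_mul_card_le_of_even (N : Subgroup (Equiv.Perm α)) (hN : Group.IsNilpotent N)
    (heven : ∀ g ∈ N, Equiv.Perm.sign g = 1) (h2 : 2 ≤ Fintype.card α) (h5 : Fintype.card α ≠ 5)
    (h6 : Fintype.card α ≠ 6) (h9 : Fintype.card α ≠ 9) (h3 : Fintype.card α ≠ 3) :
    2 * Nat.card N ≤ bnd (Fintype.card α) := by
  obtain ⟨n, hn⟩ : ∃ n, n = Fintype.card α := ⟨_, rfl⟩
  rw [← hn] at h2 h5 h6 h9 h3 ⊢
  obtain ⟨c, hc⟩ : ∃ c, c = Nat.card N := ⟨_, rfl⟩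
  rw [← hc]
  have hbig : 16 ≤ n → c ^ 2 ≤ 3 ^ (n - 1) → 2 * c ≤ bnd n := by
    intro h16 hsq
    refine (Nat.pow_le_pow_iff_left (n := 2) two_ne_zero).1 ?_
    refine le_trans (le_of_eq (by ring : (2 * c) ^ 2 = 4 * c ^ 2)) ?_
    refine le_trans (Nat.mul_le_mul_left _ hsq) (le_trans (four_mul_three_pow_le n h16) ?_)
    rw [show (4 : ℕ) = 2 ^ 2 by norm_num, ← pow_mul, mul_comm, pow_mul]
    exact Nat.pow_le_pow_left (pow_expTwo_le_bnd n) 2
  have hsmall : ∀ t, c ^ 2 ≤ t → 4 * t ≤ bnd n ^ 2 → 2 * c ≤ bnd n := fun t ht htb =>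
    (Nat.pow_le_pow_iff_left (n := 2) two_ne_zero).1 (by
      rw [show (2 * c) ^ 2 = 4 * c ^ 2 by ring]; omega)
  by_cases ht : IsPretransitive N α
  · rcases transitive_even_cases hN heven (hn ▸ h2) with h | ⟨hno, hNo⟩
    · rw [← hn, ← hc] at h
      exact h.trans (pow_expTwo_le_bnd n)
    rw [← hn] at hno
    have hno' := Nat.odd_iff.1 hno
    rcases Nat.lt_or_ge n 16 with h16 | h16
    swap
    · exact hbig h16 (hc ▸ odd_sq_le n α (by rw [Nat.card_eq_fintype_card, hn]) N hN hNo)
    -- the degrees 7, 11, 13 and 15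
    obtain ⟨p, m, hp, hp3, hnpm, β, _, M, hβ, hM, hMt, hModd, hle⟩ :=
      transitive_odd_cases hN hNo (by rw [Nat.card_eq_fintype_card, ← hn]; exact h2)
    rw [Nat.card_eq_fintype_card, ← hn] at hnpm
    rw [← hc] at hle
    obtain ⟨hsm, -, -⟩ := bnd_small h2 h16 h3 h5 h6 h9
    by_cases hm : m = 1
    · subst hm
      rw [card_eq_one_of_le_one M (by omega), mul_one, pow_one] at hle
      rw [mul_one] at hnpm
      subst hnpm
      exact le_trans (Nat.mul_le_mul_left 2 hle) (hsm hno')
    have hn15 : n = 15 := by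
      have hm0 : m ≠ 0 := fun h => by rw [h, mul_zero] at hnpm; omega
      have hm2 : m ≠ 2 := fun h => by rw [h] at hnpm; omega
      have hm5 : m ≤ 5 := by
        have := Nat.mul_le_mul_right m hp3
        omega
      have hp5 : p ≤ 5 := by
        have := Nat.mul_le_mul_left p (show 3 ≤ m by omega)
        omega
      interval_cases m <;> interval_cases p <;> omega
    haveI := hN
    obtain ⟨x⟩ : Nonempty α := Fintype.card_pos_iff.1 (by omega)
    have hdvd : n ∣ Nat.card N := by
      rw [hn, ← Nat.card_eq_fintype_card, ← MulAction.index_stabilizer_of_transitive N x]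
      exact Subgroup.index_dvd_card _
    rw [hn15] at hdvd
    obtain ⟨z, hz, hz5⟩ := exists_central_orderOf (by norm_num : Nat.Prime 5)
      (dvd_trans (by norm_num : 5 ∣ 15) hdvd)
    obtain ⟨y, hy, hy3⟩ := exists_central_orderOf (by norm_num : Nat.Prime 3)
      (dvd_trans (by norm_num : 3 ∣ 15) hdvd)
    obtain ⟨r, M', hM', -, hcard, -, hle'⟩ := transitive_card_le hN hz hy (by rw [hz5, hy3]; norm_num)
    have h1 := prime_dvd_degree (α := α) hz
    have hb := card_le_bnd M' hM'
    rw [hz5, hcard, hy3, Nat.card_eq_fintype_card, ← hn, hn15] at h1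
    rw [hcard, hy3] at hb
    have hr : r = 1 := by omega
    subst hr
    rw [hz5, ← hc] at hle'
    subst hn15
    rw [one_mul, bnd_three] at hb
    rw [pow_one] at hle'
    omega
  · rcases intransitive_alternatives hN heven ht with h | ⟨h, h'⟩
    · rwa [← hn, ← hc] at h
    rw [← hn, ← hc] at h h'
    rcases Nat.lt_or_ge n 16 with h16 | h16
    swap
    · exact hbig h16 (h.trans (Nat.pow_le_pow_right (by norm_num) (by omega)))
    obtain ⟨-, hev, hod⟩ := bnd_small h2 h16 h3 h5 h6 h9
    rcases Nat.even_or_odd n with he | ho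
    · exact hsmall _ h (hev (Nat.even_iff.1 he))
    · exact hsmall _ (h' ho) (hod (Nat.odd_iff.1 ho))

end CfsgLib.Perm.Nilp
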