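import Cfsg.Agent.Lib.Perm.Nilpotent.Bound

/-!
# Nilpotent permutation groups of order three times a large power of two
-/

set_option autoImplicit false
set_option linter.unusedSectionVars false
set_option linter.style.haveILetI false

namespace CfsgLib.Perm.Nilp

open MulAction

universe u

variable {A B α : Type u}

/-- The product of two symmetric groups on a split set. -/
def splitHom (e : A ⊕ B ≃ α) : Equiv.Perm A × Equiv.Perm B →* Equiv.Perm α :=
  e.permCongrHom.toMonoidHom.comp (Equiv.Perm.sumCongrHom A B)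

theorem splitHom_injective (e : A ⊕ B ≃ α) : Function.Injective (splitHom e) :=
  e.permCongrHom.injective.comp Equiv.Perm.sumCongrHom_injective

@[simp] theorem splitHom_inl (e : A ⊕ B ≃ α) (g : Equiv.Perm A × Equiv.Perm B) (a : A) :
    splitHom e g (e (Sum.inl a)) = e (Sum.inl (g.1 a)) := by
  simp [splitHom, Equiv.permCongr_apply]

@[simp] theorem splitHom_inr (e : A ⊕ B ≃ α) (g : Equiv.Perm A × Equiv.Perm B) (b : B) :
    splitHom e g (e (Sum.inr b)) = e (Sum.inr (g.2 b)) := by
  simp [splitHom, Equiv.permCongr_apply]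

theorem sign_splitHom [Fintype A] [DecidableEq A] [Fintype B] [DecidableEq B] [Fintype α] [DecidableEq α]
    (e : A ⊕ B ≃ α) (g : Equiv.Perm A × Equiv.Perm B) :
    Equiv.Perm.sign (splitHom e g) = Equiv.Perm.sign g.1 * Equiv.Perm.sign g.2 := by
  simp [splitHom, Equiv.Perm.sign_permCongr, Equiv.Perm.sumCongrHom, Equiv.Perm.sign_sumCongr]

/-- Conjugation between two split forms. -/
theorem splitHom_conj (e₁ e₂ : A ⊕ B ≃ α) (c : Equiv.Perm A) (x : Equiv.Perm A × Equiv.Perm B) :
    (e₁.symm.trans ((Equiv.sumCongr c 1).trans e₂)) * splitHom e₁ x *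
      (e₁.symm.trans ((Equiv.sumCongr c 1).trans e₂))⁻¹ = splitHom e₂ (c * x.1 * c⁻¹, x.2) := by
  rw [mul_inv_eq_iff_eq_mul]
  refine Equiv.ext fun y => ?_
  obtain ⟨z, rfl⟩ := e₁.surjective y
  rcases z with a | b <;> simp [Equiv.Perm.mul_apply]

/-- The standard subgroup. -/
def stdGrp (e : A ⊕ B ≃ α) (Q : Subgroup (Equiv.Perm A)) (R : Subgroup (Equiv.Perm B)) :
    Subgroup (Equiv.Perm α) := (Q.prod R).map (splitHom e)

noncomputable def stdGrpEquiv (e : A ⊕ B ≃ α) (Q : Subgroup (Equiv.Perm A)) (R : Subgroup (Equiv.Perm B)) :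
    stdGrp e Q R ≃* Q × R :=
  (Subgroup.equivMapOfInjective _ _ (splitHom_injective e)).symm.trans (Subgroup.prodEquiv Q R)

theorem card_stdGrp (e : A ⊕ B ≃ α) (Q : Subgroup (Equiv.Perm A)) (R : Subgroup (Equiv.Perm B)) :
    Nat.card (stdGrp e Q R) = Nat.card Q * Nat.card R := by
  rw [Nat.card_congr (stdGrpEquiv e Q R).toEquiv, Nat.card_prod]

theorem stdGrp_conj (e₁ e₂ : A ⊕ B ≃ α) (c : Equiv.Perm A) {Q₁ Q₂ : Subgroup (Equiv.Perm A)}
    (hc : Q₁.map (MulAut.conj c).toMonoidHom = Q₂) (R : Subgroup (Equiv.Perm B)) :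
    (stdGrp e₁ Q₁ R).map (MulAut.conj (e₁.symm.trans ((Equiv.sumCongr c 1).trans e₂))).toMonoidHom =
      stdGrp e₂ Q₂ R := by
  subst hc
  refine le_antisymm ?_ ?_
  · rintro _ ⟨_, ⟨x, ⟨h1, h2⟩, rfl⟩, rfl⟩
    exact ⟨(c * x.1 * c⁻¹, x.2), ⟨⟨x.1, h1, rfl⟩, h2⟩, (splitHom_conj e₁ e₂ c x).symm⟩
  · rintro _ ⟨⟨_, b⟩, ⟨⟨a, ha, rfl⟩, hb⟩, rfl⟩
    exact ⟨_, ⟨(a, b), ⟨ha, hb⟩, rfl⟩, splitHom_conj e₁ e₂ c (a, b)⟩

/-- A factor normalising the second part normalises the standard subgroup. -/
theorem stdGrp_normalize (e : A ⊕ B ≃ α) (Q : Subgroup (Equiv.Perm A)) (R : Subgroup (Equiv.Perm B))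
    (d : Equiv.Perm B) [R.Normal] :
    (stdGrp e Q R).map (MulAut.conj (splitHom e (1, d))).toMonoidHom = stdGrp e Q R := by
  have key : ∀ d : Equiv.Perm B, (stdGrp e Q R).map (MulAut.conj (splitHom e (1, d))).toMonoidHom ≤
      stdGrp e Q R := by
    rintro d _ ⟨_, ⟨x, ⟨h1, h2⟩, rfl⟩, rfl⟩
    refine ⟨(1, d) * x * (1, d)⁻¹, ⟨by simpa using h1, ?_⟩, (by rw [map_mul, map_mul, map_inv]; rfl)⟩
    exact Subgroup.Normal.conj_mem inferInstance _ h2 d
  refine le_antisymm (key d) fun x hx => ?_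
  exact ⟨(splitHom e (1, d))⁻¹ * x * splitHom e (1, d),
    by simpa [← map_inv] using key d⁻¹ ⟨x, hx, rfl⟩, by simp [mul_assoc]⟩

/-- The structure of a nilpotent group of order `3 * 2 ^ k`. -/
theorem exists_split_of_card {n k : ℕ} (N : Subgroup (Equiv.Perm (Fin n))) (hN : Group.IsNilpotent N)
    (hcard : Nat.card N = 3 * 2 ^ k) (hk : 6 ≤ n → expTwo (n - 4) < k) :
    ∃ (e : Fin (n - 3) ⊕ Fin 3 ≃ Fin n) (Q : Subgroup (Equiv.Perm (Fin (n - 3)))),
      Nat.card Q = 2 ^ k ∧ N = stdGrp e Q (alternatingGroup (Fin 3)) := by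
  classical
  haveI := hN
  haveI : Fact (Nat.Prime 2) := ⟨Nat.prime_two⟩
  haveI : Fact (Nat.Prime 3) := ⟨Nat.prime_three⟩
  obtain ⟨t, htc, ht3⟩ := exists_central_orderOf (G := N) Nat.prime_three (hcard ▸ dvd_mul_right 3 _)
  obtain ⟨S⟩ : Nonempty (Sylow 2 N) := inferInstance
  have hS : Nat.card (S : Subgroup N) = 2 ^ k := by
    rw [S.card_eq_multiplicity, hcard, Nat.factorization_mul (by norm_num) (by positivity),
      Nat.Prime.factorization Nat.prime_three, Nat.Prime.factorization_pow Nat.prime_two]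
    simp
  obtain ⟨τ, hτ⟩ : ∃ τ : Equiv.Perm (Fin n), τ = (t : Equiv.Perm (Fin n)) := ⟨_, rfl⟩
  have hτ3 : τ ^ 3 = 1 := by
    rw [hτ, ← SubmonoidClass.coe_pow, ← ht3, pow_orderOf_eq_one]; rfl
  have hτ3' : ∀ x, τ (τ (τ x)) = x := fun x => Equiv.congr_fun hτ3 x
  have hcomm : ∀ q : N, ∀ x, (q : Equiv.Perm (Fin n)) (τ x) = τ ((q : Equiv.Perm (Fin n)) x) := fun q x =>
    by rw [hτ]; exact Equiv.congr_fun (congrArg Subtype.val (Subgroup.mem_center_iff.1 htc q)) x
  -- a two-element fixing an orbit of `τ` setwise fixes it pointwise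
  have hodd : ∀ q : (S : Subgroup N), ∀ x, (((q : N) : Equiv.Perm (Fin n)) x = x ∨
      ((q : N) : Equiv.Perm (Fin n)) x = τ x ∨ ((q : N) : Equiv.Perm (Fin n)) x = τ (τ x)) →
      ((q : N) : Equiv.Perm (Fin n)) x = x := by
    intro q x hx
    obtain ⟨g, hg⟩ : ∃ g : Equiv.Perm (Fin n), g = ((q : N) : Equiv.Perm (Fin n)) := ⟨_, rfl⟩
    have hc : ∀ y, g (τ y) = τ (g y) := by rw [hg]; exact hcomm q
    rw [← hg] at hx ⊢
    have h3 : (g ^ 3) x = x := by
      show g (g (g x)) = x
      rcases hx with h | h | h <;> simp only [h, hc, hτ3']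
    obtain ⟨j, hj⟩ := S.isPGroup' q
    have hgj : g ^ (2 ^ j) = 1 := by
      rw [hg, ← SubmonoidClass.coe_pow, ← SubmonoidClass.coe_pow, hj]; rfl
    have hco : Nat.Coprime 3 (2 ^ j) := Nat.Coprime.pow_right _ (by norm_num)
    have hb := Nat.gcd_eq_gcd_ab 3 (2 ^ j)
    rw [hco.gcd_eq_one] at hb
    have e : g = (g ^ 3) ^ Nat.gcdA 3 (2 ^ j) * (g ^ (2 ^ j)) ^ Nat.gcdB 3 (2 ^ j) := by
      rw [← zpow_natCast g 3, ← zpow_natCast g (2 ^ j), ← zpow_mul, ← zpow_mul, ← zpow_add, ← hb]
      exact (zpow_one g).symm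
    have h1 : g ∈ stabilizer (Equiv.Perm (Fin n)) x := by
      rw [e]
      refine Subgroup.mul_mem _ (Subgroup.zpow_mem _ h3 _) (Subgroup.zpow_mem _ ?_ _)
      rw [hgj]
      exact one_mem _
    exact h1
  -- exactly one orbit of size three
  obtain ⟨x, hx⟩ : ∃ x, τ x ≠ x := by
    by_contra hall
    push Not at hall
    have h1 : t = 1 := Subtype.ext (Equiv.ext fun y => by rw [← hτ]; exact hall y)
    rw [h1, orderOf_one] at ht3
    norm_num at ht3
  have hne : ∀ y, τ y ≠ y → τ (τ y) ≠ y ∧ τ (τ y) ≠ τ y := by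
    intro y hy
    refine ⟨fun h => hy ?_, fun h => hy (τ.injective h)⟩
    have := hτ3' y
    rw [h] at this
    exact this
  have hmoved : ∀ y, τ y ≠ y → y = x ∨ y = τ x ∨ y = τ (τ x) := by
    intro y hy
    by_contra hcon
    push Not at hcon
    obtain ⟨hy0, hy1, hy2⟩ := hcon
    have e1 : τ y ≠ τ x := fun h => hy0 (τ.injective h)
    have e2 : τ y ≠ τ (τ x) := fun h => hy1 (τ.injective h)
    have e3 : τ y ≠ x := fun h => hy2 (τ.injective (h.trans (hτ3' x).symm))
    have e4 : τ (τ y) ≠ τ x := fun h => e3 (τ.injective h)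
    have e5 : τ (τ y) ≠ τ (τ x) := fun h => e1 (τ.injective h)
    have e6 : τ (τ y) ≠ x := fun h => e2 (τ.injective (h.trans (hτ3' x).symm))
    let R : Finset (Fin n) := {τ x, τ (τ x), τ y, τ (τ y)}
    have hR : R.card = 4 := by
      simp only [R]
      rw [Finset.card_insert_of_notMem, Finset.card_insert_of_notMem, Finset.card_insert_of_notMem,
        Finset.card_singleton] <;> simp [Ne.symm e1, Ne.symm e2, Ne.symm e4, Ne.symm e5,
          (hne x hx).2, Ne.symm (hne x hx).2, Ne.symm (hne y hy).2]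
    have hn6 : 6 ≤ n := by
      have h6 : (insert x (insert y R)).card = 6 := by
        rw [Finset.card_insert_of_notMem, Finset.card_insert_of_notMem, hR]
        · simp only [R, Finset.mem_insert, Finset.mem_singleton]
          rintro (h | h | h | h)
          exacts [hy1 h, hy2 h, hy h.symm, (hne y hy).1 h.symm]
        · simp only [R, Finset.mem_insert, Finset.mem_singleton]
          rintro (h | h | h | h | h)
          exacts [hy0 h.symm, hx h.symm, (hne x hx).1 h.symm, e3 h.symm, e6 h.symm]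
      have := Finset.card_le_univ (insert x (insert y R))
      rw [h6, Fintype.card_fin] at this
      exact this
    have hβ : Nat.card (orbitRel.Quotient (Subgroup.zpowers t) (Fin n)) ≤ n - 4 := by
      have hs : Function.Surjective (fun z : {z : Fin n // z ∉ R} =>
          (Quotient.mk'' (z : Fin n) : orbitRel.Quotient (Subgroup.zpowers t) (Fin n))) := by
        intro b
        induction b using Quotient.inductionOn' with
        | _ z =>
          have hrel : ∀ w : Fin n, (Quotient.mk'' (τ w) : orbitRel.Quotient (Subgroup.zpowers t) (Fin n)) =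
              Quotient.mk'' w := fun w =>
            Quotient.sound' ⟨⟨t, Subgroup.mem_zpowers t⟩, by rw [hτ]; rfl⟩
          by_cases hz : z ∈ R
          · have hxR : x ∉ R := by
              simp only [R, Finset.mem_insert, Finset.mem_singleton]
              rintro (h | h | h | h)
              exacts [hx h.symm, (hne x hx).1 h.symm, e3 h.symm, e6 h.symm]
            have hyR : y ∉ R := by
              simp only [R, Finset.mem_insert, Finset.mem_singleton]
              rintro (h | h | h | h)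
              exacts [hy1 h, hy2 h, hy h.symm, (hne y hy).1 h.symm]
            simp only [R, Finset.mem_insert, Finset.mem_singleton] at hz
            rcases hz with rfl | rfl | rfl | rfl
            · exact ⟨⟨x, hxR⟩, (hrel x).symm⟩
            · exact ⟨⟨x, hxR⟩, by rw [hrel, hrel]⟩
            · exact ⟨⟨y, hyR⟩, (hrel y).symm⟩
            · exact ⟨⟨y, hyR⟩, by rw [hrel, hrel]⟩
          · exact ⟨⟨z, hz⟩, rfl⟩
      refine (Nat.card_le_card_of_surjective _ hs).trans ?_
      rw [Nat.card_eq_fintype_card, Fintype.card_subtype_compl, Fintype.card_coe, hR, Fintype.card_fin]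
    have hf : Function.Injective ((blockHom htc).comp (S : Subgroup N).subtype) := by
      rw [injective_iff_map_eq_one]
      intro q hq
      apply Subtype.ext; apply Subtype.ext
      refine Equiv.ext fun z => ?_
      refine hodd q z ?_
      have h1 := congrArg (fun g : Equiv.Perm (orbitRel.Quotient (Subgroup.zpowers t) (Fin n)) =>
        g (Quotient.mk'' z)) hq
      obtain ⟨⟨s, hs⟩, hsz⟩ := Quotient.exact' h1
      obtain ⟨i, rfl⟩ := Subgroup.mem_zpowers_iff.1 hs
      have hsz' : ((q : N) : Equiv.Perm (Fin n)) z = (τ ^ i) z := by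
        rw [hτ, ← SubgroupClass.coe_zpow]; exact hsz.symm
      rw [hsz']
      have : τ ^ i = τ ^ ((i % 3).toNat) := by
        rw [← zpow_natCast, Int.toNat_of_nonneg (Int.emod_nonneg _ (by norm_num))]
        conv_lhs => rw [← Int.emod_add_mul_ediv i 3]
        rw [zpow_add, zpow_mul, show τ ^ (3 : ℤ) = 1 from hτ3, one_zpow, mul_one]
      rw [this]
      have h3 : (i % 3).toNat < 3 := by omega
      interval_cases (i % 3).toNat
      · exact Or.inl rfl
      · exact Or.inr (Or.inl rfl)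
      · exact Or.inr (Or.inr rfl)
    have hle := isPGroup_card_le (N := ((blockHom htc).comp (S : Subgroup N).subtype).range)
      (IsPGroup.iff_card.2 ⟨k, by rw [Nat.card_congr (MonoidHom.ofInjective hf).toEquiv.symm, hS]⟩)
    rw [Nat.card_congr (MonoidHom.ofInjective hf).toEquiv.symm, hS] at hle
    have h1 := hle.trans (Nat.pow_le_pow_right two_pos (expTwo_mono hβ))
    have := hk hn6
    have := (Nat.pow_le_pow_iff_right (a := 2) (by norm_num)).1 h1
    omega
  -- the split
  have hm3 : Fintype.card {y // τ y ≠ y} = 3 := by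
    rw [Fintype.card_subtype]
    rw [show Finset.univ.filter (fun y => τ y ≠ y) = {x, τ x, τ (τ x)} from ?_]
    · rw [Finset.card_eq_three]
      exact ⟨x, τ x, τ (τ x), Ne.symm hx, (hne x hx).1.symm, (hne x hx).2.symm, rfl⟩
    · ext y
      simp only [Finset.mem_filter, Finset.mem_univ, true_and, Finset.mem_insert, Finset.mem_singleton]
      refine ⟨hmoved y, ?_⟩
      rintro (rfl | rfl | rfl) h
      · exact hx h
      · exact hx (τ.injective h)
      · exact hx (τ.injective (τ.injective h))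
  have hfix : Fintype.card {y // τ y = y} = n - 3 := by
    have := Fintype.card_congr (Equiv.sumCompl fun y => τ y = y)
    rw [Fintype.card_sum, Fintype.card_fin] at this
    have h3 : Fintype.card {y // ¬ τ y = y} = 3 := hm3
    omega
  let e : Fin (n - 3) ⊕ Fin 3 ≃ Fin n :=
    (Equiv.sumCongr (Fintype.equivFinOfCardEq hfix).symm (Fintype.equivFinOfCardEq hm3).symm).trans
      (Equiv.sumCompl fun y => τ y = y)
  have hel : ∀ a, τ (e (Sum.inl a)) = e (Sum.inl a) := fun a => ((Fintype.equivFinOfCardEq hfix).symm a).2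
  have her : ∀ b, τ (e (Sum.inr b)) ≠ e (Sum.inr b) := fun b => ((Fintype.equivFinOfCardEq hm3).symm b).2
  -- every element of `N` preserves the fixed points of `τ`
  have hpres : ∀ q : N, ∀ y, τ ((q : Equiv.Perm (Fin n)) y) = (q : Equiv.Perm (Fin n)) y ↔ τ y = y :=
    fun q y => by rw [← hcomm q y]; exact (q : Equiv.Perm (Fin n)).injective.eq_iff
  have hmem : ∀ q : N, (q : Equiv.Perm (Fin n)) ∈ (splitHom e).range := by
    intro q
    have hmaps : Set.MapsTo (e.permCongr.symm (q : Equiv.Perm (Fin n))) (Set.range Sum.inl)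
        (Set.range Sum.inl) := by
      rintro _ ⟨a, rfl⟩
      rw [Equiv.permCongr_symm, Equiv.permCongr_apply, Equiv.symm_symm]
      rcases h : e.symm ((q : Equiv.Perm (Fin n)) (e (Sum.inl a))) with a' | b
      · exact ⟨a', rfl⟩
      · exfalso
        rw [Equiv.symm_apply_eq] at h
        exact her b (h ▸ (hpres q _).2 (hel a))
    obtain ⟨⟨g₁, g₂⟩, hg⟩ := Equiv.Perm.mem_sumCongrHom_range_of_perm_mapsTo_inl hmaps
    refine ⟨(g₁, g₂), ?_⟩
    show e.permCongrHom _ = _
    rw [hg]
    exact e.permCongr.apply_symm_apply _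
  -- two-elements fix the moved points
  have hQ : ∀ q : (S : Subgroup N), ∃ g, splitHom e (g, 1) = ((q : N) : Equiv.Perm (Fin n)) := by
    intro q
    obtain ⟨⟨g₁, g₂⟩, hg⟩ := hmem q
    refine ⟨g₁, ?_⟩
    rw [← hg]
    congr 2
    refine Equiv.ext fun b => ?_
    have hb := her b
    have hq : ((q : N) : Equiv.Perm (Fin n)) (e (Sum.inr b)) = e (Sum.inr b) := by
      refine hodd q _ ?_
      have h1 := hmoved _ (fun h => hb ((hpres q _).1 h))
      have h2 := hmoved _ hb
      generalize ((q : N) : Equiv.Perm (Fin n)) (e (Sum.inr b)) = u at h1 ⊢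
      rcases h1 with rfl | rfl | rfl <;> rcases h2 with h | h | h <;> simp [h, hτ3']
    rw [← hg, splitHom_inr] at hq
    exact (Sum.inr.inj (e.injective hq)).symm
  let Q : Subgroup (Equiv.Perm (Fin (n - 3))) :=
    (((S : Subgroup N).map N.subtype).comap (splitHom e)).comap (MonoidHom.inl _ _)
  have hQ' : Nat.card Q = 2 ^ k := by
    rw [← hS]
    refine Nat.card_congr (Equiv.ofBijective (fun g => ⟨⟨splitHom e ((g : Equiv.Perm (Fin (n - 3))), 1), ?_⟩, ?_⟩)
      ⟨?_, ?_⟩)
    · obtain ⟨q, -, hq⟩ := g.2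
      exact hq ▸ q.2
    · obtain ⟨q, hq', hq⟩ := g.2
      exact (show q = ⟨_, hq ▸ q.2⟩ from Subtype.ext hq) ▸ hq'
    · intro a b h
      have := splitHom_injective e (congrArg (fun z : (S : Subgroup N) => ((z : N) : Equiv.Perm (Fin n))) h)
      exact Subtype.ext (congrArg Prod.fst this)
    · intro q
      obtain ⟨g, hg⟩ := hQ q
      exact ⟨⟨g, (q : N), q.2, hg.symm⟩, Subtype.ext (Subtype.ext hg)⟩
  refine ⟨e, Q, hQ', ?_⟩
  have hA3 : Nat.card (alternatingGroup (Fin 3)) = 3 := by
    rw [Nat.card_eq_fintype_card]; rfl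
  refine Subgroup.eq_of_le_of_card_ge ?_ (by rw [card_stdGrp, hQ', hA3, hcard, mul_comm])
  -- `N` is generated by its two Sylow subgroups
  have hsup : (S : Subgroup N) ⊔ Subgroup.zpowers t = ⊤ := by
    apply Subgroup.eq_top_of_card_eq
    refine Nat.dvd_antisymm (Subgroup.card_subgroup_dvd_card _) ?_
    rw [hcard]
    refine Nat.Coprime.mul_dvd_of_dvd_of_dvd (Nat.Coprime.pow_right _ (by norm_num)) ?_ ?_
    · rw [← ht3, ← Nat.card_zpowers]; exact Subgroup.card_dvd_of_le le_sup_right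
    · rw [← hS]; exact Subgroup.card_dvd_of_le le_sup_left
  have hle : (⊤ : Subgroup N) ≤ (stdGrp e Q (alternatingGroup (Fin 3))).comap N.subtype := by
    rw [← hsup, sup_le_iff, Subgroup.zpowers_le]
    refine ⟨fun q hq => ?_, ?_⟩
    · obtain ⟨g, hg⟩ := hQ ⟨q, hq⟩
      exact ⟨(g, 1), ⟨⟨q, hq, hg.symm⟩, one_mem _⟩, hg⟩
    · obtain ⟨⟨g₁, g₂⟩, hg⟩ := hmem t
      have hg1 : g₁ = 1 := Equiv.ext fun a => by
        have h := hel a
        rw [hτ, ← hg, splitHom_inl] at h
        exact Sum.inl.inj (e.injective h)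
      refine ⟨(g₁, g₂), ⟨?_, ?_⟩, hg⟩
      · rw [hg1]; exact one_mem _
      · have h3 : g₂ ^ 3 = 1 := by
          have : splitHom e ((g₁, g₂) ^ 3) = splitHom e 1 := by rw [map_pow, hg, ← hτ, hτ3, map_one]
          exact congrArg Prod.snd (splitHom_injective e this)
        refine Equiv.Perm.mem_alternatingGroup.2 ?_
        have := congrArg Equiv.Perm.sign h3
        rw [map_pow, map_one] at this
        rcases Int.units_eq_one_or (Equiv.Perm.sign g₂) with h | h
        · exact h
        · rw [h] at this; exact absurd this (by decide)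
  intro g hg
  exact hle (Subgroup.mem_top (⟨g, hg⟩ : N))

end CfsgLib.Perm.Nilp
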