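import Mathlib
import Cfsg.Agent.Lib.Coprime.Solvable

/-!
# Restrictions and central block systems of nilpotent permutation groups
-/

set_option autoImplicit false
set_option linter.unusedSectionVars false
set_option linter.style.haveILetI false

namespace CfsgLib.Perm.Nilp

open MulAction

universe u

variable {α : Type u} {N : Subgroup (Equiv.Perm α)}

/-- A predicate invariant under a permutation group. -/
def Inv (N : Subgroup (Equiv.Perm α)) (P : α → Prop) : Prop := ∀ g ∈ N, ∀ x, P (g x) ↔ P x

theorem Inv.not {P : α → Prop} (h : Inv N P) : Inv N (fun x => ¬ P x) :=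
  fun g hg x => not_congr (h g hg x)

/-- Restriction to an invariant part. -/
def resHom {P : α → Prop} (h : Inv N P) : N →* Equiv.Perm {x // P x} where
  toFun g := (g : Equiv.Perm α).subtypePerm (h g g.2)
  map_one' := Equiv.ext fun _ => rfl
  map_mul' _ _ := Equiv.ext fun _ => rfl

theorem isNilpotent_range (hN : Group.IsNilpotent N) {H : Type*} [Group H] (f : N →* H) :
    Group.IsNilpotent f.range :=
  Group.nilpotent_of_surjective f.rangeRestrict f.rangeRestrict_surjective

/-- The product of the two restrictions, as a permutation group. -/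
def prodRes {P : α → Prop} [DecidablePred P] (h : Inv N P) : Subgroup (Equiv.Perm α) :=
  (Subgroup.prod (resHom h).range (resHom h.not).range).map (Equiv.Perm.subtypeCongrHom P)

theorem le_prodRes {P : α → Prop} [DecidablePred P] (h : Inv N P) : N ≤ prodRes h := by
  intro g hg
  refine ⟨(resHom h ⟨g, hg⟩, resHom h.not ⟨g, hg⟩), ⟨⟨_, rfl⟩, ⟨_, rfl⟩⟩, Equiv.ext fun x => ?_⟩
  show Equiv.Perm.subtypeCongr _ _ x = g x
  by_cases hx : P x
  · rw [Equiv.Perm.subtypeCongr.left_apply _ _ hx]; rfl
  · rw [Equiv.Perm.subtypeCongr.right_apply _ _ hx]; rfl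

theorem card_prodRes [Finite α] {P : α → Prop} [DecidablePred P] (h : Inv N P) :
    Nat.card (prodRes h) = Nat.card (resHom h).range * Nat.card (resHom h.not).range := by
  rw [prodRes, Subgroup.card_map_of_injective (Equiv.Perm.subtypeCongrHom_injective P),
    Nat.card_congr (Subgroup.prodEquiv _ _).toEquiv, Nat.card_prod]

theorem isNilpotent_prodRes (hN : Group.IsNilpotent N) {P : α → Prop} [DecidablePred P] (h : Inv N P) :
    Group.IsNilpotent (prodRes h) := by
  haveI := isNilpotent_range hN (resHom h)
  haveI := isNilpotent_range hN (resHom h.not)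
  haveI : Group.IsNilpotent (Subgroup.prod (resHom h).range (resHom h.not).range) :=
    Group.nilpotent_of_surjective
      (Subgroup.prodEquiv (resHom h).range (resHom h.not).range).symm.toMonoidHom
      (MulEquiv.surjective _)
  exact Group.nilpotent_of_surjective
    (Subgroup.equivMapOfInjective _ _ (Equiv.Perm.subtypeCongrHom_injective P)).toMonoidHom
    (MulEquiv.surjective _)

theorem card_le_mul [Finite α] {P : α → Prop} (h : Inv N P) :
    Nat.card N ≤ Nat.card (resHom h).range * Nat.card (resHom h.not).range := by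
  classical
  rw [← card_prodRes h]
  exact Nat.le_of_dvd Nat.card_pos (Subgroup.card_dvd_of_le (le_prodRes h))

/-- An odd restriction doubles the product. -/
theorem two_mul_card_le_of_odd [Fintype α] [DecidableEq α] {P : α → Prop} [DecidablePred P]
    (h : Inv N P) (heven : ∀ g ∈ N, Equiv.Perm.sign g = 1)
    (hodd : ∃ s ∈ (resHom h).range, Equiv.Perm.sign s ≠ 1) : 2 * Nat.card N ≤ Nat.card (prodRes h) := by
  obtain ⟨s, hs, hsign⟩ := hodd
  have hlt : N < prodRes h := lt_of_le_of_ne (le_prodRes h) fun e => hsign (by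
    have hm : Equiv.Perm.subtypeCongr s 1 ∈ N := by
      rw [e]; exact ⟨(s, 1), ⟨hs, one_mem _⟩, rfl⟩
    have := heven _ hm
    rwa [Equiv.Perm.sign_subtypeCongr, map_one, mul_one] at this)
  obtain ⟨k, hk⟩ := Subgroup.card_dvd_of_le hlt.le
  have hk1 : k ≠ 1 := fun e => hlt.ne (Subgroup.eq_of_le_of_card_ge hlt.le (by rw [hk, e, mul_one]))
  have hk0 : k ≠ 0 := fun e => by rw [e, mul_zero] at hk; exact Nat.card_pos.ne' hk
  rw [hk, mul_comm 2]
  exact Nat.mul_le_mul_left _ (by omega)

/-- An intransitive group has a proper invariant part. -/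
theorem exists_inv_of_not_pretransitive (h : ¬ IsPretransitive N α) :
    ∃ P : α → Prop, Inv N P ∧ (∃ x, P x) ∧ ∃ y, ¬ P y := by
  obtain ⟨x, y, hxy⟩ : ∃ x y : α, y ∉ orbit N x := by
    by_contra hall
    push Not at hall
    exact h ⟨fun x y => hall x y⟩
  refine ⟨fun z => z ∈ orbit N x, fun g hg z => ?_, ⟨x, mem_orbit_self x⟩, y, hxy⟩
  exact mem_orbit_iff_of_smul_eq ⟨g, hg⟩ z x
where
  mem_orbit_iff_of_smul_eq (g : N) (z x : α) : g • z ∈ orbit N x ↔ z ∈ orbit N x := by
    rw [← orbit_eq_iff, orbit_smul, orbit_eq_iff]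

theorem card_lt_of_parts [Finite α] {P : α → Prop} (hx : ∃ x, P x) (hy : ∃ y, ¬ P y) :
    Nat.card {x // P x} + Nat.card {x // ¬ P x} = Nat.card α ∧
      1 ≤ Nat.card {x // P x} ∧ 1 ≤ Nat.card {x // ¬ P x} := by
  classical
  haveI : Nonempty {x // P x} := ⟨⟨_, hx.choose_spec⟩⟩
  haveI : Nonempty {x // ¬ P x} := ⟨⟨_, hy.choose_spec⟩⟩
  refine ⟨?_, Nat.card_pos, Nat.card_pos⟩
  rw [← Nat.card_sum]
  exact Nat.card_congr (Equiv.sumCompl P)

/-- In a transitive group only the identity of the centre has a fixed point. -/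
theorem central_eq_one [IsPretransitive N α] {z : N} (hz : z ∈ Subgroup.center N) {x : α}
    (hx : (z : Equiv.Perm α) x = x) : z = 1 := by
  apply Subtype.ext
  refine Equiv.ext fun y => ?_
  obtain ⟨g, rfl⟩ := exists_smul_eq N x y
  show (z • g • x : α) = g • x
  rw [smul_smul, ← Subgroup.mem_center_iff.1 hz g, ← smul_smul]
  exact congrArg _ hx

theorem stabilizer_central_eq_bot [IsPretransitive N α] {T : Subgroup N} (hT : T ≤ Subgroup.center N)
    (x : α) : stabilizer T x = ⊥ :=
  (eq_bot_iff).2 fun t ht => Subgroup.mem_bot.2 (Subtype.ext (central_eq_one (hT t.2) ht))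

theorem card_quot_mul_card [IsPretransitive N α] {T : Subgroup N} (hT : T ≤ Subgroup.center N) :
    Nat.card (orbitRel.Quotient T α) * Nat.card T = Nat.card α := by
  rw [Nat.card_congr (selfEquivOrbitsQuotientProd (G := T) (X := α) (stabilizer_central_eq_bot hT)),
    Nat.card_prod]

/-- The action on the orbits of a central element. -/
def blockHom {z : N} (hz : z ∈ Subgroup.center N) :
    N →* Equiv.Perm (orbitRel.Quotient (Subgroup.zpowers z) α) :=
  have hmap : ∀ g : N, ∀ a b : α, (orbitRel (Subgroup.zpowers z) α) a b →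
      (orbitRel (Subgroup.zpowers z) α) (g • a) (g • b) := by
    rintro g a b ⟨t, rfl⟩
    refine ⟨t, ?_⟩
    show ((t : N) • g • b : α) = g • ((t : N) • b)
    rw [smul_smul, ← Subgroup.mem_center_iff.1 ((Subgroup.zpowers_le.2 hz) t.2) g, ← smul_smul]
  { toFun := fun g =>
      { toFun := Quotient.map' (g • ·) (hmap g)
        invFun := Quotient.map' (g⁻¹ • ·) (hmap g⁻¹)
        left_inv := fun q => Quotient.inductionOn' q fun a => by
          simp only [Quotient.map'_mk'', inv_smul_smul]
        right_inv := fun q => Quotient.inductionOn' q fun a => by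
          simp only [Quotient.map'_mk'', smul_inv_smul] }
    map_one' := Equiv.ext fun q => Quotient.inductionOn' q fun a => by
      show Quotient.mk'' ((1 : N) • a) = _
      rw [one_smul]; rfl
    map_mul' := fun g h => Equiv.ext fun q => Quotient.inductionOn' q fun a => by
      show Quotient.mk'' ((g * h) • a) = Quotient.mk'' (g • h • a)
      rw [mul_smul] }

theorem blockHom_pretransitive [IsPretransitive N α] {z : N} (hz : z ∈ Subgroup.center N) :
    IsPretransitive (blockHom hz).range (orbitRel.Quotient (Subgroup.zpowers z) α) := by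
  refine ⟨fun a b => ?_⟩
  induction a using Quotient.inductionOn' with
  | _ a =>
    induction b using Quotient.inductionOn' with
    | _ b =>
      obtain ⟨g, rfl⟩ := exists_smul_eq N a b
      exact ⟨⟨blockHom hz g, g, rfl⟩, rfl⟩

/-- The kernel on the blocks is bounded through any central subgroup. -/
theorem card_blockHom_ker_le [Finite α] {z : N} (hz : z ∈ Subgroup.center N) {T : Subgroup N}
    (hT : T ≤ Subgroup.center N) :
    Nat.card (blockHom hz).ker ≤ orderOf z ^ Nat.card (orbitRel.Quotient T α) := by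
  classical
  have hk : ∀ k : (blockHom hz).ker, ∀ x : α, (k : N) • x ∈ orbit (Subgroup.zpowers z) x := by
    intro k x
    have h := congrArg (fun e : Equiv.Perm (orbitRel.Quotient (Subgroup.zpowers z) α) =>
      e (Quotient.mk'' x)) (MonoidHom.mem_ker.1 k.2)
    exact Quotient.exact' h
  haveI := Fintype.ofFinite (orbitRel.Quotient T α)
  let f : (blockHom hz).ker → ((q : orbitRel.Quotient T α) → orbit (Subgroup.zpowers z) (Quotient.out q)) :=
    fun k q => ⟨(k : N) • Quotient.out q, hk k _⟩
  have hf : Function.Injective f := by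
    intro a b h
    apply Subtype.ext; apply Subtype.ext
    refine Equiv.ext fun x => ?_
    have hq := congrArg Subtype.val (congrFun h (Quotient.mk'' x))
    simp only [f] at hq
    obtain ⟨t, ht⟩ : x ∈ orbit T (Quotient.out (Quotient.mk'' x : orbitRel.Quotient T α)) :=
      Quotient.exact' (Quotient.out_eq' (Quotient.mk'' x : orbitRel.Quotient T α)).symm
    show (a : N) • x = (b : N) • x
    rw [← ht]
    show (a : N) • (t : N) • Quotient.out (Quotient.mk'' x : orbitRel.Quotient T α) =
      (b : N) • (t : N) • Quotient.out (Quotient.mk'' x : orbitRel.Quotient T α)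
    rw [smul_smul, smul_smul, Subgroup.mem_center_iff.1 (hT t.2) (a : N),
      Subgroup.mem_center_iff.1 (hT t.2) (b : N), ← smul_smul, ← smul_smul, hq]
  refine (Nat.card_le_card_of_injective f hf).trans ?_
  rw [Nat.card_pi, ← Nat.card_zpowers, Nat.card_eq_fintype_card (α := orbitRel.Quotient T α),
    ← Finset.card_univ, ← Finset.prod_const]
  refine Finset.prod_le_prod' fun q _ => ?_
  refine Nat.card_le_card_of_surjective (fun t => ⟨t • Quotient.out q, mem_orbit _ t⟩) ?_
  rintro ⟨_, t, rfl⟩
  exact ⟨t, rfl⟩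

theorem card_le_ker_mul_range [Finite α] {z : N} (hz : z ∈ Subgroup.center N) :
    Nat.card N = Nat.card (blockHom hz).ker * Nat.card (blockHom hz).range := by
  rw [Subgroup.card_eq_card_quotient_mul_card_subgroup (blockHom hz).ker, mul_comm,
    Nat.card_congr (QuotientGroup.quotientKerEquivRange _).toEquiv]

/-- Central elements of every prime order dividing the group order. -/
theorem exists_central_orderOf {G : Type*} [Group G] [Finite G] [Group.IsNilpotent G] {p : ℕ}
    (hp : p.Prime) (hdvd : p ∣ Nat.card G) : ∃ z ∈ Subgroup.center G, orderOf z = p := by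
  haveI := Fact.mk hp
  obtain ⟨P⟩ : Nonempty (Sylow p G) := inferInstance
  have hne : (P : Subgroup G) ≠ ⊥ := P.ne_bot_of_dvd_card hdvd
  have h2 := CfsgLib.Coprime.nilpotent_inf_center_ne_bot (P : Subgroup G) hne
  have hPi : IsPGroup p ((P : Subgroup G) ⊓ Subgroup.center G : Subgroup G) :=
    P.isPGroup'.to_le inf_le_left
  haveI := (Subgroup.nontrivial_iff_ne_bot _).2 h2
  obtain ⟨n, hn⟩ := IsPGroup.iff_card.1 hPi
  have hd : p ∣ Nat.card ((P : Subgroup G) ⊓ Subgroup.center G : Subgroup G) := by
    rcases n with - | n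
    · exact absurd hn (by rw [pow_zero]; exact (Finite.one_lt_card).ne')
    · rw [hn]; exact dvd_pow_self p (Nat.succ_ne_zero _)
  obtain ⟨⟨x, hx⟩, hxo⟩ := exists_prime_orderOf_dvd_card' p hd
  exact ⟨x, hx.2, (Subgroup.orderOf_coe _).trans hxo⟩

end CfsgLib.Perm.Nilp
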